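import Mathlib

/-!
# Algebra for modules on a punctured Zariski pair
-/

universe u

namespace Groth.Agent.PairHom

open TensorProduct

variable {R : Type u} [CommRing R] {M N : Type u} [AddCommGroup M] [Module R M] [AddCommGroup N] [Module R N]

/-- Injective and surjective up to powers of the elements of `I`. -/
structure UIso (I : Ideal R) (g : M →ₗ[R] N) : Prop where
  ker : ∀ x, g x = 0 → ∀ f ∈ I, ∃ k : ℕ, f ^ k • x = 0
  coker : ∀ y, ∀ f ∈ I, ∃ k : ℕ, f ^ k • y ∈ LinearMap.range g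

theorem exists_pow_smul_top_le [IsNoetherianRing R] [Module.Finite R M] {I : Ideal R} (Q : Submodule R M)
    (h : ∀ y : M, ∀ f ∈ I, ∃ k : ℕ, f ^ k • y ∈ Q) : ∃ n : ℕ, I ^ n • (⊤ : Submodule R M) ≤ Q := by
  classical
  obtain ⟨s, hs⟩ := Module.Finite.fg_top (R := R) (M := M)
  have hy : ∀ y : M, ∃ k, I ^ k ≤ Q.comap (LinearMap.toSpanSingleton R M y) := fun y =>
    Ideal.exists_pow_le_of_le_radical_of_fg (fun f hf => (h y f hf)) (IsNoetherian.noetherian I)
  choose k hk using hy
  refine ⟨s.sup k, ?_⟩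
  rw [Submodule.smul_le]
  intro r hr y hyt
  clear hyt
  have hy : y ∈ Submodule.span R (s : Set M) := hs ▸ Submodule.mem_top
  induction hy using Submodule.span_induction with
  | mem z hz => exact hk z (Ideal.pow_le_pow_right (Finset.le_sup (f := k) hz) hr)
  | zero => rw [smul_zero]; exact zero_mem _
  | add a b _ _ ha hb => rw [smul_add]; exact add_mem ha hb
  | smul c a _ ha => rw [smul_comm]; exact Q.smul_mem c ha

theorem UIso.subtype_pow {I : Ideal R} (n : ℕ) : UIso I (I ^ n • (⊤ : Submodule R M)).subtype where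
  ker x hx f _ := ⟨0, by rw [pow_zero, one_smul]; exact Subtype.ext hx⟩
  coker y f hf := ⟨n, ⟨⟨_, Submodule.smul_mem_smul (Ideal.pow_mem_pow hf n) (Submodule.mem_top (x := y))⟩, rfl⟩⟩

theorem UIso.comp {P : Type u} [AddCommGroup P] [Module R P] {I : Ideal R} {g : M →ₗ[R] N} {g' : N →ₗ[R] P}
    (hg : UIso I g) (hg' : UIso I g') : UIso I (g'.comp g) where
  ker x hx f hf := by
    obtain ⟨k, hk⟩ := hg'.ker (g x) hx f hf
    rw [← map_smul] at hk
    obtain ⟨l, hl⟩ := hg.ker _ hk f hf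
    exact ⟨l + k, by rw [pow_add, mul_smul, hl]⟩
  coker y f hf := by
    obtain ⟨k, x, hx⟩ := hg'.coker y f hf
    obtain ⟨l, z, hz⟩ := hg.coker x f hf
    exact ⟨l + k, z, by rw [LinearMap.comp_apply, hz, map_smul, hx, pow_add, mul_smul]⟩

theorem UIso.of_linearEquiv {I : Ideal R} (e : M ≃ₗ[R] N) : UIso I e.toLinearMap where
  ker x hx f _ := ⟨0, by rw [pow_zero, one_smul]; exact e.map_eq_zero_iff.1 hx⟩
  coker y f _ := ⟨0, e.symm (f ^ 0 • y), e.apply_symm_apply _⟩

variable {A A' : Type u} [CommRing A] [CommRing A'] [Algebra A A'] (J : Ideal A)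

/-- Elements of a base change are approximated by elements of the module. -/
theorem exists_approx {P : Type u} [AddCommGroup P] [Module A P] (N : ℕ)
    (hs : ∀ b : A', ∃ c : A, b - algebraMap A A' c ∈ (J.map (algebraMap A A')) ^ N) (t : A' ⊗[A] P) :
    ∃ m : P, t - (1 : A') ⊗ₜ[A] m ∈ (J.map (algebraMap A A')) ^ N • (⊤ : Submodule A' (A' ⊗[A] P)) := by
  induction t with
  | zero => exact ⟨0, by simp⟩
  | tmul b p =>
    obtain ⟨c, hc⟩ := hs b
    refine ⟨c • p, ?_⟩
    have e : b ⊗ₜ[A] p - (1 : A') ⊗ₜ[A] (c • p) = (b - algebraMap A A' c) • ((1 : A') ⊗ₜ[A] p) := by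
      rw [TensorProduct.smul_tmul', smul_eq_mul, mul_one, sub_tmul, ← TensorProduct.smul_tmul,
        Algebra.algebraMap_eq_smul_one]
    rw [e]
    exact Submodule.smul_mem_smul hc Submodule.mem_top
  | add x y hx hy =>
    obtain ⟨m, hm⟩ := hx
    obtain ⟨m', hm'⟩ := hy
    refine ⟨m + m', ?_⟩
    rw [tmul_add, add_sub_add_comm]
    exact add_mem hm hm'

theorem flat_of_quotients [IsNoetherianRing A] [IsNoetherianRing A']
    (hJ' : J.map (algebraMap A A') ≤ (⊥ : Ideal A').jacobson)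
    (hq : ∀ n : ℕ, Function.Bijective
      (Ideal.quotientMap ((J ^ n).map (algebraMap A A')) (algebraMap A A') Ideal.le_comap_map)) :
    Module.Flat A A' := by
  set J' := J.map (algebraMap A A')
  have hsurj : ∀ N, ∀ b : A', ∃ c : A, b - algebraMap A A' c ∈ J' ^ N := by
    intro N b
    obtain ⟨q, hq'⟩ := (hq N).2 (Ideal.Quotient.mk _ b)
    obtain ⟨c, rfl⟩ := Ideal.Quotient.mk_surjective q
    rw [Ideal.quotientMap_mk, Ideal.Quotient.eq, Ideal.map_pow] at hq'
    exact ⟨c, by rw [← neg_sub]; exact neg_mem hq'⟩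
  have hinj : ∀ N, ∀ a : A, algebraMap A A' a ∈ J' ^ N → a ∈ J ^ N := by
    intro N a ha
    refine Ideal.Quotient.eq_zero_iff_mem.1 ((hq N).1 ?_)
    rw [map_zero, Ideal.quotientMap_mk, Ideal.Quotient.eq_zero_iff_mem, Ideal.map_pow]
    exact ha
  rw [Module.Flat.iff_lTensor_injective]
  intro 𝔞 h𝔞
  haveI : Module.Finite A 𝔞 := Module.Finite.iff_fg.mpr h𝔞
  rw [injective_iff_map_eq_zero]
  intro x hx
  have hmem : ∀ N, x ∈ J' ^ N • (⊤ : Submodule A' (A' ⊗[A] 𝔞)) := by
    intro N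
    obtain ⟨k, hk⟩ := J.exists_pow_inf_eq_pow_smul (M := A) 𝔞
    obtain ⟨s, hs⟩ := exists_approx J (N + k) (hsurj (N + k)) x
    let f := AlgebraTensorModule.lTensor A' A' (Submodule.subtype 𝔞)
    have h1 : f (x - (1 : A') ⊗ₜ[A] s) ∈ J' ^ (N + k) • (⊤ : Submodule A' (A' ⊗[A] A)) :=
      Submodule.smul_mono le_rfl le_top (by
        have := Submodule.mem_map_of_mem (f := f) hs
        rwa [Submodule.map_smul''] at this)
    have h2 : algebraMap A A' (s : A) ∈ J' ^ (N + k) := by
      have h3 := Submodule.mem_map_of_mem (f := (AlgebraTensorModule.rid A A' A').toLinearMap) h1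
      rw [Submodule.map_smul'', map_sub, show f x = 0 from hx, zero_sub] at h3
      have h4 := Submodule.smul_mono le_rfl le_top h3
      rw [smul_eq_mul, Ideal.mul_top] at h4
      simpa [f, Algebra.algebraMap_eq_smul_one] using h4
    have h5 : (s : A) ∈ J ^ (N + k) • (⊤ : Submodule A A) ⊓ 𝔞 :=
      ⟨by rw [smul_eq_mul, Ideal.mul_top]; exact hinj _ _ h2, s.2⟩
    rw [hk (N + k) (Nat.le_add_left _ _), Nat.add_sub_cancel] at h5
    have h6 : s ∈ J ^ N • (⊤ : Submodule A 𝔞) := by
      have h7 : (s : A) ∈ Submodule.map 𝔞.subtype (J ^ N • (⊤ : Submodule A 𝔞)) := by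
        rw [Submodule.map_smul'', Submodule.map_top, Submodule.range_subtype]
        exact Submodule.smul_mono le_rfl inf_le_right h5
      obtain ⟨s', hs', e⟩ := h7
      rwa [← Subtype.ext e]
    have h8 : ∀ y ∈ J ^ N • (⊤ : Submodule A 𝔞), (1 : A') ⊗ₜ[A] y ∈ J' ^ N • (⊤ : Submodule A' (A' ⊗[A] 𝔞)) := by
      intro y hy
      refine Submodule.smul_induction_on hy (fun r hr z _ => ?_) fun a b ha hb => by rw [tmul_add]; exact add_mem ha hb
      rw [tmul_smul, ← IsScalarTower.algebraMap_smul A' r ((1 : A') ⊗ₜ[A] z)]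
      refine Submodule.smul_mem_smul ?_ Submodule.mem_top
      rw [← Ideal.map_pow]
      exact Ideal.mem_map_of_mem _ hr
    rw [← sub_add_cancel x ((1 : A') ⊗ₜ[A] s)]
    exact add_mem (Submodule.smul_mono_left (Ideal.pow_le_pow_right (Nat.le_add_right N k)) hs) (h8 s h6)
  obtain ⟨⟨r, hr⟩, hrx⟩ := (J'.mem_iInf_smul_pow_eq_bot_iff x).1 (Submodule.mem_iInf _ |>.2 hmem)
  have hu : IsUnit (1 - r) := by
    have h1 := Ideal.mem_jacobson_bot.1 (hJ' hr) (-1)
    rwa [mul_neg, mul_one, neg_add_eq_sub] at h1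
  have h2 : (1 - r) • x = 0 := by
    show (1 - r : A') • x = 0
    rw [sub_smul (1 : A') r x, one_smul, hrx, sub_self]
  exact hu.smul_eq_zero.1 h2

/-- Base change of `UIso`. -/
theorem UIso.baseChange [Module.Flat A A'] {M N : Type u} [AddCommGroup M] [Module A M] [AddCommGroup N]
    [Module A N] {I : Ideal A} (hI : I.FG) {g : M →ₗ[A] N} (hg : Function.Injective g) (hc : UIso I g) :
    UIso (I.map (algebraMap A A')) (g.baseChange A') where
  ker x hx f _ := ⟨0, by
    rw [pow_zero, one_smul]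
    exact Module.Flat.lTensor_preserves_injective_linearMap (M := A') g hg (hx.trans (map_zero _).symm)⟩
  coker y := by
    intro f hf
    let Q : Submodule A' (A' ⊗[A] N) := LinearMap.range (g.baseChange A')
    let T : Ideal A' := Ideal.radical (Q.comap (LinearMap.toSpanSingleton A' (A' ⊗[A] N) y) : Ideal A')
    have hle : I.map (algebraMap A A') ≤ T := by
      rw [Ideal.map_le_iff_le_comap]
      intro a ha
      show ∃ k : ℕ, algebraMap A A' a ^ k • y ∈ Q
      clear T
      induction y using TensorProduct.induction_on with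
      | zero => exact ⟨0, by simp [Q]⟩
      | tmul b n =>
        obtain ⟨k, m, hm⟩ := hc.coker n a ha
        refine ⟨k, b ⊗ₜ[A] m, ?_⟩
        show b ⊗ₜ[A] g m = algebraMap A A' a ^ k • (b ⊗ₜ[A] n)
        rw [hm, ← map_pow, IsScalarTower.algebraMap_smul, tmul_smul]
      | add p q hp hq =>
        obtain ⟨k, hk⟩ := hp
        obtain ⟨l, hl⟩ := hq
        refine ⟨k + l, ?_⟩
        show algebraMap A A' a ^ (k + l) • (p + q) ∈ Q
        rw [smul_add]
        refine add_mem ?_ ?_
        · rw [pow_add, mul_comm, mul_smul]; exact Q.smul_mem _ hk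
        · rw [pow_add, mul_smul]; exact Q.smul_mem _ hl
    exact Ideal.mem_radical_iff.1 (hle hf)

/-- Approximating a map that is an isomorphism outside `V(I)`. -/
theorem exists_approx_map [IsNoetherianRing A] [IsNoetherianRing A'] [Module.Flat A A'] {K P : Type u}
    [AddCommGroup K] [Module A K] [Module.Finite A K] [AddCommGroup P] [Module A P] [Module.Finite A P]
    (I : Ideal A) (hIJ : J ≤ I.radical) (hJ : J ≤ (⊥ : Ideal A).jacobson)
    (hJ' : J.map (algebraMap A A') ≤ (⊥ : Ideal A').jacobson)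
    (hq : ∀ n : ℕ, Function.Bijective
      (Ideal.quotientMap ((J ^ n).map (algebraMap A A')) (algebraMap A A') Ideal.le_comap_map))
    (ψ : A' ⊗[A] K →ₗ[A'] A' ⊗[A] P)
    (hψ : ∀ y, ∀ f ∈ I.map (algebraMap A A'), ∃ k : ℕ, f ^ k • y ∈ LinearMap.range ψ) :
    ∃ h : K →ₗ[A] P, ∀ y, ∀ f ∈ I, ∃ k : ℕ, f ^ k • y ∈ LinearMap.range h := by
  set J' := J.map (algebraMap A A')
  set I' := I.map (algebraMap A A')
  obtain ⟨m, hm⟩ := exists_pow_smul_top_le (LinearMap.range ψ) hψ
  obtain ⟨s, hs⟩ := Ideal.exists_pow_le_of_le_radical_of_fg hIJ (IsNoetherian.noetherian J)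
  let N := 1 + s * m
  have hJN : J' ^ N • (⊤ : Submodule A' (A' ⊗[A] P)) ≤ J' • LinearMap.range ψ := by
    rw [show N = 1 + s * m from rfl, pow_add, pow_one, ← smul_eq_mul, Submodule.smul_assoc]
    refine Submodule.smul_mono le_rfl (le_trans (Submodule.smul_mono_left ?_) hm)
    rw [pow_mul]
    refine Ideal.pow_right_mono ?_ m
    rw [← Ideal.map_pow]
    exact Ideal.map_mono hs
  haveI : Module.FinitePresentation A K := Module.finitePresentation_of_finite A K
  obtain ⟨t, rfl⟩ := (Module.FinitePresentation.isBaseChange_map A K P A').equiv.surjective ψ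
  set E := (Module.FinitePresentation.isBaseChange_map A K P A').equiv
  have hsurj : ∀ b : A', ∃ c : A, b - algebraMap A A' c ∈ J' ^ N := fun b => by
    obtain ⟨q, hq'⟩ := (hq N).2 (Ideal.Quotient.mk _ b)
    obtain ⟨c, rfl⟩ := Ideal.Quotient.mk_surjective q
    rw [Ideal.quotientMap_mk, Ideal.Quotient.eq, Ideal.map_pow] at hq'
    exact ⟨c, by rw [← neg_sub]; exact neg_mem hq'⟩
  obtain ⟨h, hh⟩ := exists_approx J N hsurj t
  have hEh : E ((1 : A') ⊗ₜ[A] h) = h.baseChange A' := by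
    rw [IsBaseChange.equiv_tmul, one_smul]; rfl
  have hδ : ∀ x, E t x - h.baseChange A' x ∈ J' ^ N • (⊤ : Submodule A' (A' ⊗[A] P)) := by
    intro x
    have h1 := Submodule.mem_map_of_mem (f := (LinearMap.applyₗ x) ∘ₗ E.toLinearMap) hh
    rw [Submodule.map_smul''] at h1
    have h2 := Submodule.smul_mono le_rfl le_top h1
    simp only [LinearMap.comp_apply, LinearEquiv.coe_coe, map_sub, hEh, LinearMap.applyₗ_apply_apply] at h2
    exact h2
  set Q := LinearMap.range (E t)
  set Q' := LinearMap.range (h.baseChange A')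
  have hQ : Q ≤ Q' ⊔ J' • Q := by
    rintro _ ⟨x, rfl⟩
    rw [← add_sub_cancel (h.baseChange A' x) (E t x)]
    exact Submodule.add_mem_sup ⟨x, rfl⟩ (hJN (hδ x))
  have hQle : Q ≤ Q' := Submodule.le_of_le_smul_of_le_jacobson_bot (IsNoetherian.noetherian Q) hJ' hQ
  let c := (LinearMap.range h).mkQ
  have hzero : ∀ z, z ∈ Q' → c.baseChange A' z = 0 := by
    rintro _ ⟨x, rfl⟩
    induction x with
    | zero => simp
    | tmul b k =>
      rw [LinearMap.baseChange_tmul, LinearMap.baseChange_tmul]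
      show b ⊗ₜ[A] Submodule.Quotient.mk (h k) = 0
      rw [(Submodule.Quotient.mk_eq_zero (LinearMap.range h)).2 (LinearMap.mem_range_self h k), tmul_zero]
    | add p q hp hq => rw [map_add, map_add, hp, hq, add_zero]
  let W : Submodule A (P ⧸ LinearMap.range h) := I ^ m • ⊤
  have hWz : ∀ w : W, (1 : A') ⊗ₜ[A] (w : P ⧸ LinearMap.range h) = 0 := by
    rintro ⟨w, hw⟩
    show (1 : A') ⊗ₜ[A] w = 0
    refine Submodule.smul_induction_on hw (fun r hr v _ => ?_) fun a b ha hb => by rw [tmul_add, ha, hb, add_zero]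
    obtain ⟨p, rfl⟩ := Submodule.mkQ_surjective _ v
    have h1 : algebraMap A A' r • ((1 : A') ⊗ₜ[A] p) ∈ Q' := hQle (hm (Submodule.smul_mem_smul
      (by rw [← Ideal.map_pow]; exact Ideal.mem_map_of_mem _ hr) Submodule.mem_top))
    have h2 := hzero _ h1
    rwa [map_smul, LinearMap.baseChange_tmul, IsScalarTower.algebraMap_smul, ← tmul_smul] at h2
  have hW0 : ∀ t : A' ⊗[A] W, t = 0 := by
    intro t
    refine Module.Flat.lTensor_preserves_injective_linearMap (M := A') W.subtype W.subtype_injective ?_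
    rw [map_zero]
    induction t with
    | zero => simp
    | tmul b w =>
      rw [LinearMap.lTensor_tmul, Submodule.subtype_apply, ← mul_one b, ← smul_eq_mul, ← TensorProduct.smul_tmul',
        hWz w, smul_zero]
    | add p q hp hq => rw [map_add, hp, hq, add_zero]
  have hWJ : (⊤ : Submodule A W) ≤ J ^ 1 • ⊤ := by
    intro w _
    let g : (A ⧸ J ^ 1) →ₐ[A] A' ⧸ (J ^ 1).map (algebraMap A A') :=
      Ideal.quotientMapₐ _ (Algebra.ofId A A') Ideal.le_comap_map
    let π : A' →ₗ[A] A ⧸ J ^ 1 :=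
      ((AlgEquiv.ofBijective g (hq 1)).symm.toAlgHom.comp (Ideal.Quotient.mkₐ A _)).toLinearMap
    have hπ : π 1 = 1 := map_one ((AlgEquiv.ofBijective g (hq 1)).symm.toAlgHom.comp (Ideal.Quotient.mkₐ A _))
    have h1 := congrArg (π.rTensor W) (hW0 ((1 : A') ⊗ₜ[A] w))
    rw [LinearMap.rTensor_tmul, map_zero, hπ] at h1
    have h2 := congrArg (TensorProduct.quotTensorEquivQuotSMul W (J ^ 1)) h1
    rw [map_zero, ← map_one (Ideal.Quotient.mk (J ^ 1)), TensorProduct.quotTensorEquivQuotSMul_mk_tmul, one_smul] at h2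
    exact (Submodule.Quotient.mk_eq_zero _).1 h2
  have hWle : W ≤ J • W := by
    have h1 := Submodule.map_mono (f := W.subtype) hWJ
    rwa [Submodule.map_smul'', Submodule.map_top, Submodule.range_subtype, pow_one] at h1
  have hWbot : W = ⊥ := Submodule.eq_bot_of_le_smul_of_le_jacobson_bot J W (IsNoetherian.noetherian W) hWle hJ
  refine ⟨h, fun y f hf => ⟨m, ?_⟩⟩
  have h1 : f ^ m • Submodule.Quotient.mk (p := LinearMap.range h) y ∈ W :=
    Submodule.smul_mem_smul (Ideal.pow_mem_pow hf m) Submodule.mem_top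
  rw [hWbot, Submodule.mem_bot, ← Submodule.Quotient.mk_smul] at h1
  exact (Submodule.Quotient.mk_eq_zero _).1 h1

end Groth.Agent.PairHom
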