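import Groth.Agent.PairHom.Algebra

/-!
# Descending a correspondence that is an isomorphism outside `V(I)`
-/

universe u

namespace Groth.Agent.PairHom

open TensorProduct

variable {A A' : Type u} [CommRing A] [CommRing A'] [Algebra A A'] (J : Ideal A)
  {K₁ K₂ : Type u} [AddCommGroup K₁] [Module A K₁] [Module.Finite A K₁] [AddCommGroup K₂] [Module A K₂]
  [Module.Finite A K₂]

theorem exists_descend [IsNoetherianRing A] [IsNoetherianRing A'] [Module.Flat A A'] (I : Ideal A)
    (hIJ : J ≤ I.radical) (hJ : J ≤ (⊥ : Ideal A).jacobson)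
    (hJ' : J.map (algebraMap A A') ≤ (⊥ : Ideal A').jacobson)
    (hq : ∀ n : ℕ, Function.Bijective
      (Ideal.quotientMap ((J ^ n).map (algebraMap A A')) (algebraMap A A') Ideal.le_comap_map))
    {L : Type u} [AddCommGroup L] [Module A' L] [Module.Finite A' L]
    (a : L →ₗ[A'] A' ⊗[A] K₁) (b : L →ₗ[A'] A' ⊗[A] K₂)
    (ha : UIso (I.map (algebraMap A A')) a)
    (hb : ∀ y, ∀ f ∈ I.map (algebraMap A A'), ∃ k : ℕ, f ^ k • y ∈ LinearMap.range b) :
    ∃ (N : ℕ) (h : (I ^ N • (⊤ : Submodule A K₁) : Submodule A K₁) →ₗ[A] K₂),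
      ∀ y, ∀ f ∈ I, ∃ k : ℕ, f ^ k • y ∈ LinearMap.range h := by
  set I' := I.map (algebraMap A A')
  obtain ⟨m, hm⟩ := exists_pow_smul_top_le (M := LinearMap.ker a) (⊥ : Submodule A' _) fun y f hf => by
    obtain ⟨k, hk⟩ := ha.ker y.1 y.2 f hf
    exact ⟨k, by rw [Submodule.mem_bot]; exact Subtype.ext hk⟩
  obtain ⟨c, hc⟩ := exists_pow_smul_top_le (LinearMap.range a) ha.coker
  obtain ⟨k₀, hk₀⟩ := I'.exists_pow_inf_eq_pow_smul (LinearMap.ker a)
  set N₀ := k₀ + m
  let L₀ : Submodule A' L := I' ^ N₀ • ⊤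
  have hinj : Function.Injective (a.domRestrict L₀) := by
    rw [injective_iff_map_eq_zero]
    rintro ⟨l, hl⟩ h0
    have h1 : l ∈ I' ^ N₀ • (⊤ : Submodule A' L) ⊓ LinearMap.ker a := ⟨hl, h0⟩
    rw [hk₀ N₀ (Nat.le_add_right _ _), show N₀ - k₀ = m from Nat.add_sub_cancel_left _ _] at h1
    have h2 : l ∈ I' ^ m • LinearMap.ker a := Submodule.smul_mono le_rfl inf_le_right h1
    have h3 : l ∈ Submodule.map (LinearMap.ker a).subtype (I' ^ m • ⊤) := by
      rw [Submodule.map_smul'', Submodule.map_top, Submodule.range_subtype]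
      exact h2
    obtain ⟨z, hz, hzl⟩ := h3
    refine Subtype.ext ?_
    show l = 0
    rw [← hzl, (Submodule.mem_bot A').1 (hm hz)]
    rfl
  let N := N₀ + c
  let K : Submodule A K₁ := I ^ N • ⊤
  let u := K.subtype.baseChange A'
  have hu0 : LinearMap.range u ≤ I' ^ N • ⊤ := by
    rintro _ ⟨t, rfl⟩
    induction t with
    | zero => simp
    | tmul b' k =>
      rw [LinearMap.baseChange_tmul, ← mul_one b', ← smul_eq_mul, ← TensorProduct.smul_tmul']
      refine Submodule.smul_mem _ _ ?_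
      obtain ⟨k, hk⟩ := k
      show (1 : A') ⊗ₜ[A] k ∈ _
      refine Submodule.smul_induction_on hk (fun r hr v _ => ?_) fun p q hp hq => by
        rw [tmul_add]; exact add_mem hp hq
      rw [tmul_smul, ← IsScalarTower.algebraMap_smul A' r ((1 : A') ⊗ₜ[A] v)]
      refine Submodule.smul_mem_smul ?_ Submodule.mem_top
      rw [← Ideal.map_pow]
      exact Ideal.mem_map_of_mem _ hr
    | add p q hp hq => rw [map_add]; exact add_mem hp hq
  have hu : ∀ t, u t ∈ LinearMap.range (a.domRestrict L₀) := by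
    intro t
    rw [LinearMap.range_domRestrict, Submodule.map_smul'', Submodule.map_top]
    refine Submodule.smul_mono le_rfl hc ?_
    rw [← Submodule.smul_assoc, smul_eq_mul, ← pow_add]
    exact hu0 ⟨t, rfl⟩
  let e := LinearEquiv.ofInjective _ hinj
  let σ : A' ⊗[A] K →ₗ[A'] L₀ := e.symm.toLinearMap.comp (u.codRestrict _ hu)
  let ψ : A' ⊗[A] K →ₗ[A'] A' ⊗[A] K₂ := (b.domRestrict L₀).comp σ
  haveI : Module.Finite A K := Module.IsNoetherian.finite A K
  obtain ⟨h, hh⟩ := exists_approx_map J I hIJ hJ hJ' hq ψ (fun y f hf => by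
    obtain ⟨k, l, hl⟩ := hb y f hf
    obtain ⟨j, t, ht⟩ := (UIso.baseChange (IsNoetherian.noetherian I) K.subtype_injective
      (UIso.subtype_pow N)).coker (a (f ^ N₀ • l)) f hf
    refine ⟨j + N₀ + k, t, ?_⟩
    have h1 : (⟨f ^ (j + N₀) • l, Submodule.smul_mem_smul
        (Ideal.pow_le_pow_right (Nat.le_add_left _ _) (Ideal.pow_mem_pow hf _)) Submodule.mem_top⟩ : L₀) = σ t := by
      refine hinj (((?_ : a (f ^ (j + N₀) • l) = u t)).trans ?_)
      · rw [pow_add, mul_smul, map_smul]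
        exact ht.symm
      · exact (congrArg Subtype.val (e.apply_symm_apply (u.codRestrict _ hu t))).symm
    show b (σ t).1 = f ^ (j + N₀ + k) • y
    rw [← h1, map_smul, hl, ← mul_smul, ← pow_add]) 
  exact ⟨N, h, hh⟩

end Groth.Agent.PairHom
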