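import Groth.Agent.PairHom.Algebra
import Groth.Agent.ZClosLib.Basic
import Groth.Agent.QCoh.ExtendFT
import Groth.Agent.QCoh.SpecFT
import Groth.Agent.QCoh.Tilde
import Groth.Agent.Algz7.Restrict
import Groth.Agent.Lib.CurveTensor

/-!
# Maps of tildes restricted to an open
-/

universe u

open CategoryTheory CategoryTheory.Limits AlgebraicGeometry TopologicalSpace Opposite

namespace Groth.Agent.PairHom

variable {R : CommRingCat.{u}} {M N : ModuleCat.{u} R}

theorem app_basicOpen_eq (g : M ⟶ N) (f : R) (x : M) :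
    (tilde.map g).app (PrimeSpectrum.basicOpen f) ((tilde.toOpen M (PrimeSpectrum.basicOpen f)).hom x) =
      (tilde.toOpen N (PrimeSpectrum.basicOpen f)).hom (g.hom x) :=
  congr($(tilde.toOpen_map_app g (PrimeSpectrum.basicOpen f)).hom x)

theorem app_basicOpen_smul (g : M ⟶ N) (f : R) (r : R) (x : Γ(tilde M, PrimeSpectrum.basicOpen f)) :
    (tilde.map g).app (PrimeSpectrum.basicOpen f) (r • x) = r • (tilde.map g).app (PrimeSpectrum.basicOpen f) x :=
  ((modulesSpecToSheaf.map (tilde.map g)).1.app (op (PrimeSpectrum.basicOpen f))).hom.map_smul r x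

theorem tildeApp_surjective (g : M ⟶ N) (f : R) (h : ∀ y, ∃ k : ℕ, f ^ k • y ∈ LinearMap.range g.hom) :
    Function.Surjective ((tilde.map g).app (PrimeSpectrum.basicOpen f)) := by
  intro y
  obtain ⟨⟨y₀, ⟨_, i, rfl⟩⟩, hy⟩ := IsLocalizedModule.surj (Submonoid.powers f)
    (tilde.toOpen N (PrimeSpectrum.basicOpen f)).hom y
  obtain ⟨k, x, hx⟩ := h y₀
  have hu : IsUnit (algebraMap R (Module.End R Γ(tilde M, PrimeSpectrum.basicOpen f)) (f ^ (k + i))) := by
    rw [map_pow]; exact (Scheme.Modules.isUnit_algebraMap_end_of_le_basicOpen f le_rfl).pow _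
  obtain ⟨z, hz⟩ := ((Module.End.isUnit_iff _).1 hu).2 ((tilde.toOpen M (PrimeSpectrum.basicOpen f)).hom x)
  refine ⟨z, ?_⟩
  have hu' : IsUnit (algebraMap R (Module.End R Γ(tilde N, PrimeSpectrum.basicOpen f)) (f ^ (k + i))) := by
    rw [map_pow]; exact (Scheme.Modules.isUnit_algebraMap_end_of_le_basicOpen f le_rfl).pow _
  refine ((Module.End.isUnit_iff _).1 hu').1 ?_
  rw [Module.algebraMap_end_apply] at hz
  rw [Module.algebraMap_end_apply, Module.algebraMap_end_apply, ← app_basicOpen_smul, hz, app_basicOpen_eq, hx,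
    map_smul, pow_add, mul_smul]
  congr 1
  exact hy.symm

theorem tildeApp_injective (g : M ⟶ N) (f : R) (h : ∀ x, g.hom x = 0 → ∃ k : ℕ, f ^ k • x = 0) :
    Function.Injective ((tilde.map g).app (PrimeSpectrum.basicOpen f)) := by
  rw [injective_iff_map_eq_zero]
  intro y hy
  obtain ⟨⟨y₀, ⟨_, i, rfl⟩⟩, hy₀⟩ := IsLocalizedModule.surj (Submonoid.powers f)
    (tilde.toOpen M (PrimeSpectrum.basicOpen f)).hom y
  have h1 : (tilde.toOpen N (PrimeSpectrum.basicOpen f)).hom (g.hom y₀) = 0 := by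
    rw [← app_basicOpen_eq, ← hy₀]
    show (tilde.map g).app _ (f ^ i • y) = 0
    rw [app_basicOpen_smul, hy, smul_zero]
  obtain ⟨⟨_, j, rfl⟩, hj⟩ := (IsLocalizedModule.eq_zero_iff (Submonoid.powers f)
    (tilde.toOpen N (PrimeSpectrum.basicOpen f)).hom).1 h1
  change f ^ j • g.hom y₀ = 0 at hj
  rw [← map_smul] at hj
  obtain ⟨k, hk⟩ := h _ hj
  have h2 : (tilde.toOpen M (PrimeSpectrum.basicOpen f)).hom y₀ = 0 :=
    (IsLocalizedModule.eq_zero_iff (Submonoid.powers f) _).2 ⟨⟨f ^ (k + j), k + j, rfl⟩, by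
      show f ^ (k + j) • y₀ = 0
      rw [pow_add, mul_smul, hk]⟩
  have hu : IsUnit (algebraMap R (Module.End R Γ(tilde M, PrimeSpectrum.basicOpen f)) (f ^ i)) := by
    rw [map_pow]; exact (Scheme.Modules.isUnit_algebraMap_end_of_le_basicOpen f le_rfl).pow _
  refine ((Module.End.isUnit_iff _).1 hu).1 ?_
  rw [Module.algebraMap_end_apply, Module.algebraMap_end_apply, smul_zero]
  exact hy₀.trans h2

theorem uiso_of_app_bijective (g : M ⟶ N) (I : Ideal R)
    (h : ∀ f ∈ I, Function.Bijective ((tilde.map g).app (PrimeSpectrum.basicOpen f))) : UIso I g.hom where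
  ker x hx f hf := by
    have h1 : (tilde.toOpen M (PrimeSpectrum.basicOpen f)).hom x = 0 :=
      (h f hf).1 (by
        rw [app_basicOpen_eq, hx]
        exact (map_zero _).trans (map_zero ((tilde.map g).app (PrimeSpectrum.basicOpen f)).hom).symm)
    obtain ⟨⟨_, j, rfl⟩, hj⟩ := (IsLocalizedModule.eq_zero_iff (Submonoid.powers f) _).1 h1
    exact ⟨j, hj⟩
  coker y f hf := by
    obtain ⟨z, hz⟩ := (h f hf).2 ((tilde.toOpen N (PrimeSpectrum.basicOpen f)).hom y)
    obtain ⟨⟨x, ⟨_, i, rfl⟩⟩, hx⟩ := IsLocalizedModule.surj (Submonoid.powers f)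
      (tilde.toOpen M (PrimeSpectrum.basicOpen f)).hom z
    have h1 : (tilde.toOpen N (PrimeSpectrum.basicOpen f)).hom (f ^ i • y) =
        (tilde.toOpen N (PrimeSpectrum.basicOpen f)).hom (g.hom x) := by
      rw [map_smul, ← app_basicOpen_eq, ← hx, ← hz]
      exact (app_basicOpen_smul g f (f ^ i) z).symm
    obtain ⟨⟨_, j, rfl⟩, hj⟩ := IsLocalizedModule.exists_of_eq (S := Submonoid.powers f) h1
    refine ⟨j + i, f ^ j • x, ?_⟩
    rw [map_smul, pow_add, mul_smul]
    exact hj.symm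

theorem app_congr {X : Scheme.{u}} {F G : X.Modules} (φ : F ⟶ G) {V W : X.Opens} (e : V = W)
    {P : ∀ {α β : Type u}, (α → β) → Prop} (h : P (φ.app V)) : P (φ.app W) := by
  subst e; exact h

/-- The opens of `U` on which restricted maps of tildes are computed. -/
def Good (U : (Spec R).Opens) (W : (U : Scheme.{u}).Opens) : Prop :=
  ∃ f : R, PrimeSpectrum.basicOpen f ≤ U ∧ U.ι ''ᵁ W = PrimeSpectrum.basicOpen f

theorem good_basis (U : (Spec R).Opens) (V : (U : Scheme.{u}).Opens) (x : U) (hx : x ∈ V) :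
    ∃ W, W ≤ V ∧ x ∈ W ∧ Good U W := by
  have hx' : U.ι x ∈ U.ι ''ᵁ V := ⟨x, hx, rfl⟩
  obtain ⟨_, ⟨_, ⟨f, rfl⟩, rfl⟩, hxf, hle⟩ := PrimeSpectrum.isBasis_basic_opens.exists_subset_of_mem_open hx'
    (U.ι ''ᵁ V).2
  have hfU : (PrimeSpectrum.basicOpen f : (Spec R).Opens) ≤ U := le_trans hle (U.ι_image_le V)
  refine ⟨U.ι ⁻¹ᵁ PrimeSpectrum.basicOpen f, ?_, hxf, f, hfU, ?_⟩
  · intro y hy
    obtain ⟨z, hz, e⟩ := hle hy
    rwa [← U.ι.isOpenEmbedding.injective e]
  · rw [Scheme.Hom.image_preimage_eq_opensRange_inf, Scheme.Opens.opensRange_ι]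
    exact inf_eq_right.2 hfU

theorem restrict_app_eq_of (g : M ⟶ N) {U : (Spec R).Opens} (f : R) (hf : PrimeSpectrum.basicOpen f ≤ U) :
    Function.Bijective (((Scheme.Modules.restrictFunctor U.ι).map (tilde.map g)).app
      (U.ι ⁻¹ᵁ PrimeSpectrum.basicOpen f)) ↔
      Function.Bijective ((tilde.map g).app (PrimeSpectrum.basicOpen f)) := by
  have e : U.ι ''ᵁ U.ι ⁻¹ᵁ PrimeSpectrum.basicOpen f = PrimeSpectrum.basicOpen f := by
    rw [Scheme.Hom.image_preimage_eq_opensRange_inf, Scheme.Opens.opensRange_ι]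
    exact inf_eq_right.2 hf
  exact ⟨fun h => app_congr (tilde.map g) e (P := Function.Bijective) h,
    fun h => app_congr (tilde.map g) e.symm (P := Function.Bijective) h⟩

theorem isIso_restrict (g : M ⟶ N) {U : (Spec R).Opens}
    (h : ∀ f, PrimeSpectrum.basicOpen f ≤ U → (∀ x, g.hom x = 0 → ∃ k : ℕ, f ^ k • x = 0) ∧
      ∀ y, ∃ k : ℕ, f ^ k • y ∈ LinearMap.range g.hom) :
    IsIso ((Scheme.Modules.restrictFunctor U.ι).map (tilde.map g)) :=
  ZClosLib.isIso_of_good _ (Good U) (good_basis U) fun W ⟨f, hf, e⟩ =>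
    app_congr (tilde.map g) e.symm (P := Function.Bijective)
      ⟨tildeApp_injective g f (h f hf).1, tildeApp_surjective g f (h f hf).2⟩

theorem restrict_app_surjective (g : M ⟶ N) {U : (Spec R).Opens}
    (h : ∀ f, PrimeSpectrum.basicOpen f ≤ U → ∀ y, ∃ k : ℕ, f ^ k • y ∈ LinearMap.range g.hom)
    (W : (U : Scheme.{u}).Opens) (hW : Good U W) :
    Function.Surjective (((Scheme.Modules.restrictFunctor U.ι).map (tilde.map g)).app W) := by
  obtain ⟨f, hf, e⟩ := hW
  exact app_congr (tilde.map g) e.symm (P := Function.Surjective) (tildeApp_surjective g f (h f hf))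

theorem uiso_of_isIso_restrict (g : M ⟶ N) {U : (Spec R).Opens} (I : Ideal R)
    (hI : ∀ f ∈ I, PrimeSpectrum.basicOpen f ≤ U)
    [IsIso ((Scheme.Modules.restrictFunctor U.ι).map (tilde.map g))] : UIso I g.hom :=
  uiso_of_app_bijective g I fun f hf =>
    (restrict_app_eq_of g f (hI f hf)).1 (ZClosLib.app_bijective_of_isIso _ _)

theorem finite_of_iso {L : ModuleCat.{u} R} {G : (Spec R).Modules} (e : tilde L ≅ G) (hq : Coh.IsQCoh G)
    (h : CohB1.IsFT G) : Module.Finite R L :=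
  haveI := (QCoh.isFT_iff_finite G hq).1 h
  Module.Finite.equiv ((moduleSpecΓFunctor.mapIso e.symm).toLinearEquiv ≪≫ₗ
    (tilde.toTildeΓNatIso.app L).toLinearEquiv.symm)

/-- A morphism over `U` between tildes of finite modules is given by a correspondence. -/
theorem exists_corr [IsNoetherianRing R] [Module.Finite R M] [Module.Finite R N] {U : (Spec R).Opens}
    (θ : (tilde M).restrict U.ι ≅ (tilde N).restrict U.ι) :
    ∃ (L : ModuleCat.{u} R) (a : L ⟶ M) (b : L ⟶ N), Module.Finite R L ∧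
      IsIso ((Scheme.Modules.restrictFunctor U.ι).map (tilde.map a)) ∧
      IsIso ((Scheme.Modules.restrictFunctor U.ι).map (tilde.map b)) := by
  let P : ModuleCat.{u} R := ModuleCat.of R (M × N)
  let i₁ : M ⟶ P := ModuleCat.ofHom (LinearMap.inl R M N)
  let i₂ : N ⟶ P := ModuleCat.ofHom (LinearMap.inr R M N)
  let p₁ : P ⟶ M := ModuleCat.ofHom (LinearMap.fst R M N)
  let p₂ : P ⟶ N := ModuleCat.ofHom (LinearMap.snd R M N)
  let F := Scheme.Modules.restrictFunctor U.ι
  have h11 : F.map (tilde.map i₁) ≫ F.map (tilde.map p₁) = 𝟙 _ := by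
    rw [← F.map_comp, ← tilde.map_comp, show i₁ ≫ p₁ = 𝟙 _ from rfl, tilde.map_id, F.map_id]
  have h22 : F.map (tilde.map i₂) ≫ F.map (tilde.map p₂) = 𝟙 _ := by
    rw [← F.map_comp, ← tilde.map_comp, show i₂ ≫ p₂ = 𝟙 _ from rfl, tilde.map_id, F.map_id]
  have h21 : F.map (tilde.map i₂) ≫ F.map (tilde.map p₁) = 0 := by
    rw [← F.map_comp, ← tilde.map_comp, show i₂ ≫ p₁ = 0 from rfl, tilde.map_zero, F.map_zero]
  have h12 : F.map (tilde.map i₁) ≫ F.map (tilde.map p₂) = 0 := by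
    rw [← F.map_comp, ← tilde.map_comp, show i₁ ≫ p₂ = 0 from rfl, tilde.map_zero, F.map_zero]
  let γ : F.obj (tilde M) ⟶ F.obj (tilde P) := F.map (tilde.map i₁) + θ.hom ≫ F.map (tilde.map i₂)
  have hγ1 : γ ≫ F.map (tilde.map p₁) = 𝟙 _ := by
    simp only [γ, Preadditive.add_comp, Category.assoc]
    rw [h11, h21, comp_zero, add_zero]
  have hγ2 : γ ≫ F.map (tilde.map p₂) = θ.hom := by
    simp only [γ, Preadditive.add_comp, Category.assoc]
    rw [h12, h22, zero_add]
    exact Category.comp_id _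
  haveI : Mono γ := SplitMono.mono ⟨F.map (tilde.map p₁), hγ1⟩
  have hqM : Coh.IsQCoh (tilde M) := QCoh.isQCoh_spec_iff.2 ((tilde.functor R).obj_mem_essImage M)
  have hqP : Coh.IsQCoh (tilde P) := QCoh.isQCoh_spec_iff.2 ((tilde.functor R).obj_mem_essImage P)
  obtain ⟨G', i', e, -, hG, hGf, he⟩ := QCoh.exists_extension' hqP
    (QCoh.extStep_qcqs (U := U) (NoetherianSpace.isCompact _)) γ
    (QCoh.isQCoh_restrict U.ι hqM) (Algz7.isFT_restrict U.ι hqM ((QCoh.isFT_tilde_iff M).2 inferInstance))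
  obtain ⟨L, ⟨eL⟩⟩ := QCoh.isQCoh_spec_iff.1 hG
  obtain ⟨c, hc⟩ := (tilde.functor R).map_surjective (eL.hom ≫ i' : (tilde.functor R).obj L ⟶ (tilde.functor R).obj P)
  change tilde.map c = eL.hom ≫ i' at hc
  have hFc : F.map (tilde.map c) = (F.map eL.hom ≫ e.hom) ≫ γ := by
    rw [hc]
    exact (F.map_comp _ _).trans ((congrArg (F.map eL.hom ≫ ·) he.symm).trans (Category.assoc _ _ _).symm)
  refine ⟨L, c ≫ p₁, c ≫ p₂, finite_of_iso eL hG hGf, ?_, ?_⟩
  · show IsIso (F.map (tilde.map (c ≫ p₁)))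
    have e1 : F.map (tilde.map (c ≫ p₁)) = F.map eL.hom ≫ e.hom :=
      (congrArg F.map (tilde.map_comp c p₁)).trans ((F.map_comp _ _).trans
        ((congrArg (· ≫ _) hFc).trans ((Category.assoc _ _ _).trans
          ((congrArg (_ ≫ ·) hγ1).trans (Category.comp_id _)))))
    rw [e1]
    exact Iso.isIso_hom (F.mapIso eL ≪≫ e)
  · show IsIso (F.map (tilde.map (c ≫ p₂)))
    have e1 : F.map (tilde.map (c ≫ p₂)) = (F.map eL.hom ≫ e.hom) ≫ θ.hom :=
      (congrArg F.map (tilde.map_comp c p₂)).trans ((F.map_comp _ _).trans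
        ((congrArg (· ≫ _) hFc).trans ((Category.assoc _ _ _).trans (congrArg (_ ≫ ·) hγ2))))
    rw [e1]
    exact Iso.isIso_hom ((F.mapIso eL ≪≫ e) ≪≫ θ)

/-- Morphisms surjective on a basis between locally free modules of the same rank are isomorphisms. -/
theorem isIso_of_app_surjective {X : Scheme.{u}} {E F : X.Modules} {n : ℕ}
    (hE : FlatMod.IsFinLocFreeOfRank n E) (hF : FlatMod.IsFinLocFreeOfRank n F) (φ : E ⟶ F)
    (P : X.Opens → Prop) (hP : ∀ (V : X.Opens) (x : X), x ∈ V → ∃ W, W ≤ V ∧ x ∈ W ∧ P W)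
    (h : ∀ W, P W → Function.Surjective (φ.app W)) : IsIso φ := by
  refine ZClosLib.isIso_of_stalkMap_bijective φ fun x => ?_
  have hsurj : Function.Surjective (ZClosLib.stalkMap φ x) := fun z => by
    obtain ⟨U, hxU, b, rfl⟩ := TopCat.Presheaf.germ_exist F.presheaf z
    obtain ⟨W, hW, hxW, hPW⟩ := hP U x hxU
    obtain ⟨a, ha⟩ := h W hPW (ZClosLib.res F hW b)
    exact ⟨E.presheaf.germ W x hxW a, by
      rw [ZClosLib.stalkMap_germ, ha]; exact ZClosLib.germ_res F hW hxW b⟩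
  let l : (E.presheaf.stalk x : Type u) →ₗ[X.presheaf.stalk x] (F.presheaf.stalk x : Type u) :=
    { toFun := fun s => ZClosLib.stalkMap φ x s
      map_add' := fun s t => map_add _ s t
      map_smul' := fun r s => by
        obtain ⟨U, hU, a, rfl⟩ := X.presheaf.exists_germ_eq (x := x) r
        obtain ⟨V, hV, m, rfl⟩ := TopCat.Presheaf.germ_exist E.presheaf s
        rw [← X.presheaf.germ_res_apply (homOfLE (inf_le_left : U ⊓ V ≤ U)) x ⟨hU, hV⟩ a,
          ← ZClosLib.germ_res E (inf_le_right : U ⊓ V ≤ V) ⟨hU, hV⟩ m, ← QCoh.germ_smul',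
          ZClosLib.stalkMap_germ, Scheme.Modules.Hom.app_smul, QCoh.germ_smul', ZClosLib.stalkMap_germ]
        rfl }
  obtain ⟨bE⟩ := Groth.Agent.CurveTensor.exists_basis_stalk hE x
  obtain ⟨bF⟩ := Groth.Agent.CurveTensor.exists_basis_stalk hF x
  haveI := Module.Finite.of_basis bF
  exact ⟨OrzechProperty.injective_of_surjective_of_injective
    (bE.equiv bF (Equiv.refl _)).toLinearMap l (bE.equiv bF (Equiv.refl _)).injective hsurj, hsurj⟩

end Groth.Agent.PairHom
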